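import Mathlib
import Cfsg.Prelude.Def_CaseTheorems

/-!
# Two-groups which are sections of semidihedral groups
-/

set_option autoImplicit false
set_option linter.style.haveILetI false

namespace Cfsg.Lib.SDKnown

universe u v

open Subgroup

/-- A group with a cyclic subgroup of index at most two on which every other element acts as the inversion or,
when that subgroup has order at least eight, as the inversion times the involution. -/
def Small (P : Type u) [Group P] : Prop :=
  ∃ a : P, Nat.card P ≤ 2 * orderOf a ∧ ∀ b ∉ zpowers a,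
    b * a * b⁻¹ * a = 1 ∨ (8 ≤ orderOf a ∧ (b * a * b⁻¹ * a) ^ 2 = 1)

/-- A finite group with a two-subgroup that is no section of a semidihedral group. -/
def NoSD (G : Type u) [Group G] : Prop :=
  ∃ Q : Subgroup G, IsPGroup 2 Q ∧ ¬ Small Q

theorem small_of_quasiDihedral {S : Type u} [Group S] (h : Cfsg.IsQuasiDihedral S) : Small S := by
  obtain ⟨n, hn, hcard, x, y, hx, -, hrel⟩ := h
  have hfin : Finite S := Nat.finite_of_card_ne_zero (by rw [hcard]; positivity)
  refine ⟨x, by rw [hcard, hx, pow_succ]; omega, fun b hb => Or.inr ⟨?_, ?_⟩⟩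
  · rw [hx]
    exact le_trans (by norm_num) (Nat.pow_le_pow_right (by norm_num : 2 > 0) hn)
  · have hidx : (zpowers x).index = 2 := by
      have h := (zpowers x).card_mul_index
      rw [Nat.card_zpowers, hx, hcard, pow_succ] at h
      exact Nat.eq_of_mul_eq_mul_left (by positivity) h
    have hy : y ∉ zpowers x := by
      intro hy
      obtain ⟨k, rfl⟩ := mem_zpowers_iff.1 hy
      have hc : x ^ k * x * (x ^ k)⁻¹ = x := by group
      rw [hc] at hrel
      have h2 : x ^ (2 ^ (n - 1) - 1) = x ^ 1 := by rw [pow_one]; exact hrel.symm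
      rw [pow_inj_mod, hx, Nat.mod_eq_of_lt (by
        have : 2 ^ (n - 1) ≤ 2 ^ n := Nat.pow_le_pow_right (by norm_num) (by omega)
        have : 0 < 2 ^ (n - 1) := by positivity
        omega), Nat.mod_eq_of_lt (Nat.one_lt_two_pow (by omega))] at h2
      have : 4 ≤ 2 ^ (n - 1) := le_trans (by norm_num) (Nat.pow_le_pow_right (by norm_num : 2 > 0) (show 2 ≤ n - 1 by omega))
      omega
    have hby : b * y⁻¹ ∈ zpowers x := by
      rw [mul_mem_iff_of_index_two hidx, inv_mem_iff]
      exact iff_of_false hb hy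
    obtain ⟨k, hk⟩ := mem_zpowers_iff.1 hby
    have hconj : b * x * b⁻¹ = x ^ (2 ^ (n - 1) - 1) := by
      rw [show b = x ^ k * y by rw [hk, inv_mul_cancel_right], mul_inv_rev,
        show x ^ k * y * x * (y⁻¹ * (x ^ k)⁻¹) = x ^ k * (y * x * y⁻¹) * (x ^ k)⁻¹ by group, hrel,
        ← zpow_natCast x (2 ^ (n - 1) - 1)]
      group
    rw [hconj, ← pow_succ, ← pow_mul, Nat.sub_add_cancel Nat.one_le_two_pow, ← pow_succ,
      Nat.sub_add_cancel (by omega : 1 ≤ n), ← hx, pow_orderOf_eq_one]

theorem Small.exists_index {P : Type u} [Group P] [Finite P] (h : Small P) :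
    ∃ a : P, (zpowers a).index ≤ 2 ∧ ∀ b ∉ zpowers a,
      b * a * b⁻¹ * a = 1 ∨ (8 ≤ orderOf a ∧ (b * a * b⁻¹ * a) ^ 2 = 1) := by
  obtain ⟨a, ha, hb⟩ := h
  refine ⟨a, ?_, hb⟩
  have h := (zpowers a).card_mul_index
  rw [Nat.card_zpowers] at h
  nlinarith [orderOf_pos a]

/-- Sections: quotients. -/
theorem Small.of_surjective {P : Type u} [Group P] [Finite P] (hP : IsPGroup 2 P) {R : Type v} [Group R] (f : P →* R)
    (hf : Function.Surjective f) (h : Small P) : Small R := by
  haveI : Finite R := Finite.of_surjective f hf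
  obtain ⟨a, hidx, hb⟩ := h.exists_index
  refine ⟨f a, ?_, fun b hbn => ?_⟩
  · have h1 := (zpowers (f a)).card_mul_index
    rw [Nat.card_zpowers] at h1
    have h2 : (zpowers (f a)).index ∣ (zpowers a).index := by
      have := index_map_dvd (zpowers a) hf
      rwa [MonoidHom.map_zpowers] at this
    have h3 := Nat.le_of_dvd (Nat.pos_of_ne_zero index_ne_zero_of_finite) h2
    nlinarith [orderOf_pos (f a)]
  · obtain ⟨b', rfl⟩ := hf b
    have hb' : b' ∉ zpowers a := fun h' => hbn (by
      rw [← MonoidHom.map_zpowers]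
      exact mem_map_of_mem f h')
    rcases hb b' hb' with h1 | ⟨h8, h2⟩
    · exact Or.inl (by rw [← map_inv, ← map_mul, ← map_mul, ← map_mul, h1, map_one])
    · by_cases ho : orderOf (f a) = orderOf a
      · exact Or.inr ⟨ho ▸ h8, by rw [← map_inv, ← map_mul, ← map_mul, ← map_mul, ← map_pow, h2, map_one]⟩
      · left
        have hmem : b' * a * b'⁻¹ * a ∈ zpowers a := by
          refine mul_mem ?_ (mem_zpowers a)
          rcases Nat.eq_zero_or_pos (zpowers a).index with h0 | -
          · exact absurd h0 index_ne_zero_of_finite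
          · have h12 : (zpowers a).index = 1 ∨ (zpowers a).index = 2 := by
              have := Nat.pos_of_ne_zero (index_ne_zero_of_finite (H := zpowers a))
              omega
            rcases h12 with h12 | h12
            · rw [index_eq_one] at h12; rw [h12]; exact mem_top _
            · exact (normal_of_index_eq_two h12).conj_mem a (mem_zpowers a) b'
        obtain ⟨k, hk⟩ := mem_zpowers_iff.1 hmem
        have hd : orderOf (f a) ∣ orderOf a := orderOf_map_dvd f a
        obtain ⟨e, he⟩ := hd
        rw [← map_inv, ← map_mul, ← map_mul, ← map_mul, ← hk, map_zpow, ← orderOf_dvd_iff_zpow_eq_one]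
        have h2' : a ^ (k * 2) = 1 := by
          rw [zpow_mul, hk]; exact_mod_cast h2
        have hdk : (orderOf a : ℤ) ∣ k * 2 := orderOf_dvd_iff_zpow_eq_one.2 h2'
        have he2 : 2 ∣ e := by
          obtain ⟨j, hj⟩ := (IsPGroup.iff_orderOf.1 hP) a
          obtain ⟨i, -, hi⟩ := (Nat.dvd_prime_pow Nat.prime_two).1 (hj ▸ Dvd.intro_left _ he.symm : e ∣ 2 ^ j)
          rcases i with _ | i
          · exact absurd (by rw [he, hi, pow_zero, mul_one]) ho
          · exact hi ▸ dvd_pow_self 2 i.succ_ne_zero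
        obtain ⟨c, rfl⟩ := he2
        rw [he] at hdk
        push_cast at hdk
        have h3 : (orderOf (f a) : ℤ) * 2 ∣ k * 2 := Dvd.dvd.trans ⟨(c : ℤ), by ring⟩ hdk
        exact Int.dvd_of_mul_dvd_mul_right (by norm_num) h3

/-- Sections: subgroups. -/
theorem Small.of_injective {P : Type u} [Group P] [Finite P] (hP : IsPGroup 2 P) {R : Type v} [Group R] (f : R →* P)
    (hf : Function.Injective f) (h : Small P) : Small R := by
  haveI : Finite R := Finite.of_injective f hf
  obtain ⟨a, hidx, hb⟩ := h.exists_index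
  let K : Subgroup R := (zpowers a).comap f
  haveI : IsCyclic K := isCyclic_of_injective ((f.comp K.subtype).codRestrict (zpowers a) (fun x => x.2))
    (fun x y e => Subtype.ext (hf (congrArg Subtype.val e :)))
  obtain ⟨⟨c, hcK⟩, hc⟩ := IsCyclic.exists_generator (α := K)
  have hKc : K = zpowers c := by
    refine le_antisymm (fun x hx => ?_) (zpowers_le.2 hcK)
    obtain ⟨k, hk⟩ := mem_zpowers_iff.1 (hc ⟨x, hx⟩)
    exact mem_zpowers_iff.2 ⟨k, congrArg Subtype.val hk⟩
  have hfc : f c ∈ zpowers a := hcK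
  obtain ⟨j, hj⟩ := mem_zpowers_iff.1 hfc
  refine ⟨c, ?_, fun b hbn => ?_⟩
  · have h1 := K.card_mul_index
    have h2 : K.index ≤ (zpowers a).index := by
      rw [Subgroup.index_comap]
      calc (zpowers a).relIndex f.range ≤ (zpowers a).relIndex ⊤ := Subgroup.relIndex_le_of_le_right le_top
            (by rw [relIndex_top_right]; exact index_ne_zero_of_finite)
        _ = (zpowers a).index := relIndex_top_right _
    rw [hKc, Nat.card_zpowers] at h1
    rw [hKc] at h2
    nlinarith [orderOf_pos c]
  · have hbn' : f b ∉ zpowers a := fun h' => hbn (hKc ▸ h')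
    have hcomm : Commute (f b * a * (f b)⁻¹) a := by
      have h12 : (zpowers a).index = 2 := by
        refine le_antisymm hidx ?_
        rcases Nat.lt_or_ge (zpowers a).index 2 with h2 | h2
        · have := Nat.pos_of_ne_zero (index_ne_zero_of_finite (H := zpowers a))
          exact absurd (index_eq_one.1 (show (zpowers a).index = 1 by omega) ▸ mem_top (f b)) hbn'
        · exact h2
      obtain ⟨k, hk⟩ := mem_zpowers_iff.1 ((normal_of_index_eq_two h12).conj_mem a (mem_zpowers a) (f b))
      rw [← hk]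
      exact Commute.zpow_self a k
    have key : f (b * c * b⁻¹ * c) = (f b * a * (f b)⁻¹ * a) ^ j := by
      rw [map_mul, map_mul, map_mul, map_inv, ← hj, hcomm.mul_zpow, conj_zpow]
    rcases hb (f b) hbn' with h1 | ⟨h8, h2⟩
    · exact Or.inl (hf (by rw [key, h1, one_zpow, map_one]))
    · rcases Int.even_or_odd j with ⟨l, rfl⟩ | hodd
      · refine Or.inl (hf ?_)
        rw [key, ← two_mul, zpow_mul, zpow_ofNat, h2, one_zpow, map_one]
      · refine Or.inr ⟨?_, hf ?_⟩
        · rw [← orderOf_injective f hf c, ← hj]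
          obtain ⟨m, hm⟩ := IsPGroup.iff_orderOf.1 hP a
          have hco : IsCoprime j ((orderOf a : ℕ) : ℤ) := by
            rw [hm]; push_cast
            exact ((Int.isCoprime_iff_gcd_eq_one.2 (by
              rcases Int.emod_two_eq j with h0 | h0
              · exact absurd h0 (by rw [Int.odd_iff.1 hodd]; norm_num)
              · rw [← Int.gcd_emod, h0]; norm_num)) : IsCoprime j 2).pow_right
          obtain ⟨u, w, huw⟩ := hco
          have ha : a ∈ zpowers (a ^ j) := by
            refine mem_zpowers_iff.2 ⟨u, ?_⟩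
            rw [← zpow_mul, show j * u = 1 + (-w) * (orderOf a : ℤ) by linarith, zpow_add, zpow_one, zpow_mul',
              zpow_natCast, pow_orderOf_eq_one, one_zpow, mul_one]
          refine le_trans h8 (Nat.le_of_dvd (orderOf_pos _) ?_)
          exact orderOf_dvd_of_mem_zpowers ha
        · rw [map_pow, key, ← zpow_natCast, ← zpow_mul, mul_comm, zpow_mul, zpow_natCast, h2, one_zpow, map_one]

/-- An abelian noncyclic group of order at least eight is not small. -/
theorem not_small_of_comm {P : Type u} [Group P] [Finite P] (hcomm : ∀ x y : P, x * y = y * x)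
    (h8 : 8 ≤ Nat.card P) (hnc : ¬ IsCyclic P) : ¬ Small P := by
  rintro ⟨a, hca, hb⟩
  obtain ⟨b, hbn⟩ : ∃ b, b ∉ zpowers a := by
    by_contra h
    push Not at h
    exact hnc (isCyclic_iff_exists_zpowers_eq_top.2 ⟨a, eq_top_iff.2 fun x _ => h x⟩)
  rcases hb b hbn with h | ⟨h8', h⟩ <;> rw [hcomm b a, mul_inv_cancel_right] at h
  · have := Nat.le_of_dvd (by norm_num) (orderOf_dvd_of_pow_eq_one (x := a) (n := 2) (by rw [pow_two, h]))
    omega
  · have := Nat.le_of_dvd (by norm_num) (orderOf_dvd_of_pow_eq_one (x := a) (n := 4) (by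
      rw [show 4 = 2 * 2 from rfl, pow_mul, pow_two a, h]))
    omega

/-- No element of half the order. -/
theorem not_small_of_order {P : Type u} [Group P] (h : ∀ a : P, 2 * orderOf a < Nat.card P) : ¬ Small P := by
  rintro ⟨a, ha, -⟩
  exact absurd (h a) (not_lt.2 ha)

variable {G : Type u} [Group G] {H : Type v} [Group H]

/-- Two-subgroups with no small Sylow subgroup around them. -/
theorem NoSD.not_quasiDihedral [Finite G] (h : NoSD G) (S : Sylow 2 G) :
    ¬ Cfsg.IsQuasiDihedral (S : Subgroup G) := by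
  intro hS
  obtain ⟨Q, hQ, hQn⟩ := h
  obtain ⟨T, hT⟩ := hQ.exists_le_sylow
  obtain ⟨g, hg⟩ := MulAction.exists_smul_eq G T S
  let e : (T : Subgroup G) ≃* (S : Subgroup G) := (Sylow.equiv T S)
  exact hQn ((small_of_quasiDihedral hS).of_injective S.isPGroup' (e.toMonoidHom.comp (Subgroup.inclusion hT))
    (e.injective.comp (Subgroup.inclusion_injective hT)))

theorem NoSD.of_injective [Finite G] (f : H →* G) (hf : Function.Injective f) (h : NoSD H) : NoSD G := by
  obtain ⟨Q, hQ, hQn⟩ := h
  let e : Q ≃* Q.map f := Q.equivMapOfInjective f hf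
  exact ⟨Q.map f, hQ.map f, fun hs => hQn (hs.of_injective (hQ.map f) e.toMonoidHom e.injective)⟩

theorem NoSD.congr [Finite G] (e : H ≃* G) (h : NoSD H) : NoSD G := h.of_injective e.toMonoidHom e.injective

theorem NoSD.of_subgroup [Finite G] (K : Subgroup G) (h : NoSD K) : NoSD G :=
  h.of_injective K.subtype K.subtype_injective

theorem NoSD.of_surjective [Finite G] (f : G →* H) (hf : Function.Surjective f) (h : NoSD H) : NoSD G := by
  obtain ⟨Q, hQ, hQn⟩ := h
  haveI : Finite H := Finite.of_surjective f hf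
  obtain ⟨T, hT⟩ := hQ.exists_le_sylow
  obtain ⟨S, hS⟩ := Sylow.mapSurjective_surjective hf 2 T
  refine ⟨S, S.isPGroup', fun hs => hQn ?_⟩
  have hTe : (T : Subgroup H) = (S : Subgroup G).map f := by rw [← hS]; rfl
  have h1 : Small ↥((S : Subgroup G).map f) :=
    hs.of_surjective S.isPGroup' (f.subgroupMap (S : Subgroup G)) (f.subgroupMap_surjective (S : Subgroup G))
  exact h1.of_injective (S.isPGroup'.map f) (Subgroup.inclusion (hTe ▸ hT))
    (Subgroup.inclusion_injective _)

/-- An abelian noncyclic two-subgroup of order at least eight. -/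
theorem noSD_of_closure [Finite G] {s : Set G} (hs : ∀ x ∈ s, ∀ y ∈ s, x * y = y * x) (h4 : ∀ x ∈ s, x ^ 4 = 1)
    (h8 : 4 < Nat.card (closure s)) : NoSD G := by
  haveI : IsMulCommutative (closure s) := Subgroup.isMulCommutative_closure hs
  have hpow : ∀ z : closure s, z ^ 4 = 1 := by
    rintro ⟨z, hz⟩
    refine Subtype.ext ?_
    show z ^ 4 = 1
    induction hz using Subgroup.closure_induction with
    | mem w hw => exact h4 w hw
    | one => exact one_pow 4
    | mul a b ha hb iha ihb =>
      have hab : Commute a b := congrArg Subtype.val ((IsMulCommutative.is_comm (M := closure s)).comm ⟨a, ha⟩ ⟨b, hb⟩)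
      rw [hab.mul_pow, iha, ihb, mul_one]
    | inv a _ ih => rw [inv_pow, ih, inv_one]
  have hP : IsPGroup 2 (closure s) := fun z => ⟨2, hpow z⟩
  refine ⟨closure s, hP, not_small_of_comm (IsMulCommutative.is_comm (M := closure s)).comm ?_ fun hc => ?_⟩
  swap
  · obtain ⟨g, hg⟩ := hc.exists_ofOrder_eq_natCard
    have := Nat.le_of_dvd (by norm_num) (orderOf_dvd_of_pow_eq_one (hpow g))
    omega
  obtain ⟨k, hk⟩ := IsPGroup.iff_card.1 hP
  rw [hk] at h8 ⊢
  rcases k with _ | _ | _ | k
  all_goals first | omega | exact le_trans (by norm_num) (Nat.pow_le_pow_right (by norm_num : 2 > 0) (by omega : 3 ≤ k + 1 + 1 + 1))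

/-- Commuting elements of orders four and at most four, neither redundant. -/
theorem noSD_of_pair [Finite G] {x y : G} (hxy : Commute x y) (hx : x ^ 4 = 1) (hx2 : x ^ 2 ≠ 1) (hy : y ^ 4 = 1)
    (hyx : y ∉ zpowers x) : NoSD G := by
  have hox : orderOf x = 4 := orderOf_eq_prime_pow (p := 2) (n := 1) (by simpa using hx2) hx
  have hxm : x ∈ closure ({x, y} : Set G) := subset_closure (Set.mem_insert _ _)
  have hym : y ∈ closure ({x, y} : Set G) := subset_closure (Set.mem_insert_of_mem _ rfl)
  have hlt : 4 < Nat.card (closure ({x, y} : Set G)) := by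
    by_contra hle
    refine hyx ?_
    have h : zpowers x = closure ({x, y} : Set G) :=
      eq_of_le_of_card_ge (zpowers_le.2 hxm) (by rw [Nat.card_zpowers, hox]; omega)
    exact h ▸ hym
  refine noSD_of_closure (s := {x, y}) ?_ ?_ hlt
  · rintro a (rfl | rfl) b (rfl | rfl) <;> first | rfl | exact hxy.eq | exact hxy.eq.symm
  · rintro a (rfl | rfl) <;> assumption

/-- Three commuting involutions none of which is a product of the others. -/
theorem noSD_of_three [Finite G] {a b c : G} (hab : Commute a b) (hac : Commute a c) (hbc : Commute b c)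
    (ha : a * a = 1) (hb : b * b = 1) (hc : c * c = 1) (ha1 : a ≠ 1) (hb1 : b ≠ a) (hb0 : b ≠ 1)
    (hc0 : c ≠ 1) (hc1 : c ≠ a) (hc2 : c ≠ b) (hc3 : c ≠ a * b) : NoSD G := by
  classical
  refine noSD_of_closure (s := {a, b, c}) ?_ ?_ ?_
  · rintro u (rfl | rfl | rfl) v (rfl | rfl | rfl) <;>
      first | rfl | exact hab.eq | exact hab.eq.symm | exact hac.eq | exact hac.eq.symm | exact hbc.eq | exact hbc.eq.symm
  · rintro u (rfl | rfl | rfl) <;> simp [pow_succ, mul_assoc, ha, hb, hc]
  · letI := Fintype.ofFinite G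
    have hsub : (↑({1, a, b, a * b, c} : Finset G) : Set G) ⊆ closure ({a, b, c} : Set G) := by
      intro u hu
      have hma : a ∈ closure ({a, b, c} : Set G) := subset_closure (by simp)
      have hmb : b ∈ closure ({a, b, c} : Set G) := subset_closure (by simp)
      simp only [Finset.coe_insert, Finset.coe_singleton, Set.mem_insert_iff, Set.mem_singleton_iff] at hu
      rcases hu with rfl | rfl | rfl | rfl | rfl
      exacts [one_mem _, hma, hmb, mul_mem hma hmb, subset_closure (by simp)]
    have hab1 : a * b ≠ 1 := fun e => hb1 (by rw [← one_mul b, ← ha, mul_assoc, e, mul_one])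
    have hcard : ({1, a, b, a * b, c} : Finset G).card = 5 := by
      have h1 : a * b ≠ a := fun e => hb0 (mul_eq_left.1 e)
      have h2 : a * b ≠ b := fun e => ha1 (mul_eq_right.1 e)
      simp [Ne.symm ha1, Ne.symm hb0, Ne.symm hc0, Ne.symm hab1, Ne.symm hb1, Ne.symm hc1, Ne.symm hc2,
        Ne.symm hc3, Ne.symm h1, Ne.symm h2]
    have := Set.ncard_le_ncard hsub
    rw [Set.ncard_coe_finset, hcard, ← Nat.card_coe_set_eq] at this
    exact this

/-- A two-subgroup without elements of half its order. -/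
theorem noSD_of_orders (Q : Subgroup G) (hQ : IsPGroup 2 Q) (h : ∀ g ∈ Q, 2 * orderOf g < Nat.card Q) : NoSD G :=
  ⟨Q, hQ, not_small_of_order fun a => by rw [← Subgroup.orderOf_coe]; exact h a a.2⟩

/-- The same for the Sylow subgroup, from the orders of the group and its two-elements. -/
theorem noSD_of_two_part [Finite G] {k : ℕ} (hk : 2 ^ k ∣ Nat.card G)
    (h : ∀ g : G, orderOf g ∣ 2 ^ k → 2 * orderOf g < 2 ^ k) : NoSD G := by
  haveI : Fact (Nat.Prime 2) := ⟨Nat.prime_two⟩
  obtain ⟨Q, hQ⟩ := Sylow.exists_subgroup_card_pow_prime 2 hk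
  refine noSD_of_orders Q (IsPGroup.of_card hQ) fun g hg => ?_
  rw [hQ]
  exact h g (hQ ▸ (Subgroup.orderOf_mk g hg ▸ orderOf_dvd_natCard (⟨g, hg⟩ : Q)))

end Cfsg.Lib.SDKnown
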