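import Cfsg.Agent.SDKnown.Basic
import Cfsg.Agent.CyclicOdd.Chevalley
import Cfsg.Agent.CyclicOdd.TwistedE6
import Cfsg.Agent.CyclicOdd.TwistedD4

/-!
# Exceptional groups in odd characteristic: two commuting Weyl elements of order four
-/

set_option autoImplicit false
set_option linter.style.haveILetI false
set_option linter.unusedSectionVars false

open Cfsg.Lie Cfsg.Lib.Chev Cfsg.Lib.CyclicOdd

namespace Cfsg.Lib.SDKnown

variable {D : ChevalleyDatum} {C : Cert} {F : Type} [Field F]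

local notation "SL2F" => Matrix.SpecialLinearGroup (Fin 2) F

theorem wM_word : (wM : SL2F) = uM 1 * lM (-1) * uM 1 := by
  apply mat_inj
  rw [mat_mul, mat_mul, mat_uM, mat_lM, mat_wM, Matrix.mul_fin_two, Matrix.mul_fin_two]
  ext i j
  fin_cases i <;> fin_cases j <;> simp

theorem wM_four : (wM : SL2F) ^ 4 = 1 := by
  apply mat_inj
  simp only [pow_succ, pow_zero, one_mul, mat_mul, mat_wM, mat_one, Matrix.mul_fin_two]
  ext i j
  fin_cases i <;> fin_cases j <;> simp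

theorem wM_conj : (wM : SL2F) * uM 1 * wM⁻¹ = lM (-1) := by
  rw [mul_inv_eq_iff_eq_mul]
  apply mat_inj
  rw [mat_mul, mat_mul, mat_uM, mat_lM, mat_wM, Matrix.mul_fin_two, Matrix.mul_fin_two]
  ext i j
  fin_cases i <;> fin_cases j <;> simp

/-- A homomorphism on the root subgroups of `r` and of its negative. -/
structure RootHom (S : Struct D C) (r : ℕ) (φ : SL2F →* GL D.Idx F) : Prop where
  up : ∀ t, φ (uM t) = S.ok.xG r t
  down : ∀ t, φ (lM t) = S.ok.xG (D.neg r) t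
  range : φ.range = Subgroup.closure (Set.range (S.ok.xG (F := F) r) ∪ Set.range (S.ok.xG (D.neg r)))

theorem exists_rootHom' [Fintype F] (S : Struct D C) {r : ℕ} (hr : r < D.nroots) :
    ∃ φ : SL2F →* GL D.Idx F, RootHom S r φ := by
  obtain ⟨φ, h1, h2, h3⟩ := S.hasSL2 (F := F) r hr
  exact ⟨φ, h1, h2, h3⟩

theorem RootHom.weyl {S : Struct D C} {r : ℕ} {φ : SL2F →* GL D.Idx F} (h : RootHom S r φ) :
    φ wM = S.ok.nG r 1 := by
  rw [wM_word, map_mul, map_mul, h.up, h.down, Ok.nG, inv_one]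

theorem RootHom.commute {S : Struct D C} {r s : ℕ} (hrs : okOrth D r s = true) {φ ψ : SL2F →* GL D.Idx F}
    (hφ : RootHom S r φ) (hψ : RootHom S s ψ) (a b : SL2F) : Commute (φ a) (ψ b) := by
  simp only [okOrth, Bool.and_eq_true, decide_eq_true_eq, bne_iff_ne] at hrs
  obtain ⟨⟨⟨⟨-, h1⟩, h2⟩, h3⟩, h4⟩ := hrs
  have hle : φ.range ≤ Subgroup.centralizer
      (Set.range (S.ok.xG (F := F) s) ∪ Set.range (S.ok.xG (D.neg s))) := by
    rw [hφ.range, Subgroup.closure_le]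
    intro y hy
    refine Subgroup.mem_centralizer_iff.2 ?_
    rcases hy with ⟨t, rfl⟩ | ⟨t, rfl⟩ <;> rintro z (⟨u, rfl⟩ | ⟨u, rfl⟩)
    · exact (commute_of_okComm S h1 t u).eq.symm
    · exact (commute_of_okComm S h2 t u).eq.symm
    · exact (commute_of_okComm S h3 t u).eq.symm
    · exact (commute_of_okComm S h4 t u).eq.symm
  have hle' : ψ.range ≤ Subgroup.centralizer ({φ a} : Set (GL D.Idx F)) := by
    rw [hψ.range, Subgroup.closure_le]
    intro y hy
    refine Subgroup.mem_centralizer_iff.2 fun w hw => ?_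
    rw [Set.mem_singleton_iff.1 hw]
    exact (Subgroup.mem_centralizer_iff.1 (hle ⟨a, rfl⟩) y hy).symm
  exact Subgroup.mem_centralizer_iff.1 (hle' ⟨b, rfl⟩) (φ a) rfl

/-- The Weyl element of a positive root moves its root subgroup. -/
theorem RootHom.not_commute (S : Struct D C) (hN : okNeg D = true) {s : ℕ} (hs : s < D.nroots)
    (hsp : D.nroots / 2 ≤ s) {ψ : SL2F →* GL D.Idx F} (hψ : RootHom S s ψ) :
    ¬ Commute (ψ wM) (S.ok.xG s 1) := by
  intro hc
  have h : S.ok.xG s (1 : F) = S.ok.xG (D.neg s) (-1) := by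
    have e := congrArg ψ (wM_conj (F := F))
    rw [map_mul, map_mul, map_inv, hψ.up, hψ.down, hc.eq, mul_inv_cancel_right] at e
    exact e
  have hm : S.ok.xG s (1 : F) ∈ D.borelSubgroup F ⊓ D.negUnipotent F := by
    refine Subgroup.mem_inf.2 ⟨S.B_le_of (S.xG_mem_U hsp hs _), ?_⟩
    rw [h]
    exact Subgroup.subset_closure ⟨D.neg s, _, S.isNeg_iff.2 (S.neg_lt_half hs hsp), S.ok.val_xG _ _⟩
  rw [S.B_inf_V hN, Subgroup.mem_bot] at hm
  exact one_ne_zero (S.xG_eq_one hs hm)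

/-- The square of the Weyl element of a simple root with an odd Cartan integer. -/
theorem nG_sq_ne_one (S : Struct D C) (h2 : (2 : F) ≠ 0) {i : ℕ} (hi : i < D.rank) {u : ℕ} (hu : u < D.nroots)
    (hodd : D.cartan i u % 2 = 1) : S.ok.nG (D.simple i) (1 : F) ^ 2 ≠ 1 := by
  intro h
  have hinv : S.ok.hG (D.simple i) (-1 : F) = 1 := by
    rw [Ok.hG, ← S.ok.nG_inv, ← mul_inv_rev, inv_eq_one, ← pow_two]
    exact h
  have e := congrArg (fun M : GL D.Idx F => (M : Matrix D.Idx D.Idx F) (Sum.inr ⟨u, hu⟩) (Sum.inr ⟨u, hu⟩)) hinv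
  simp only [S.ok.hG_val_simple hi (neg_ne_zero.2 (one_ne_zero (α := F))), Ok.dMat, Matrix.diagonal_apply_eq, Units.val_one,
    Matrix.one_apply_eq, Ok.cwt, Sum.elim_inr] at e
  rw [(Int.odd_iff.2 hodd).neg_one_zpow] at e
  exact h2 (by linear_combination -e)

variable [Fintype F]

/-- Two commuting Weyl elements in a subgroup. -/
theorem noSD_of_weyl (H : Subgroup (GL D.Idx F)) {x y z : GL D.Idx F} (hx : x ∈ H) (hy : y ∈ H)
    (hxy : Commute x y) (hx4 : x ^ 4 = 1) (hx2 : x ^ 2 ≠ 1) (hy4 : y ^ 4 = 1) (hxz : Commute x z)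
    (hyz : ¬ Commute y z) : NoSD ↥H := by
  classical
  refine noSD_of_pair (x := ⟨x, hx⟩) (y := ⟨y, hy⟩) (Subtype.ext hxy.eq) (Subtype.ext hx4)
    (fun h => hx2 (congrArg Subtype.val h :)) (Subtype.ext hy4) fun h => hyz ?_
  obtain ⟨k, hk⟩ := Subgroup.mem_zpowers_iff.1 h
  rw [show y = x ^ k from (congrArg Subtype.val hk).symm]
  exact hxz.zpow_left k

theorem noSD_chev (S : Struct D C) (hN : okNeg D = true) (h2 : (2 : F) ≠ 0) {i u s : ℕ}
    (h : okOrth D (D.simple i) s = true) (hi : i < D.rank) (hu : u < D.nroots) (hodd : D.cartan i u % 2 = 1) :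
    NoSD (D.group F) := by
  have hb := h
  simp only [okOrth, okComm, Bool.and_eq_true, decide_eq_true_eq] at hb
  obtain ⟨φ, hφ⟩ := exists_rootHom' (F := F) S (r := D.simple i) hb.1.1.1.2.1.1.1.1
  obtain ⟨ψ, hψ⟩ := exists_rootHom' (F := F) S (r := s) hb.1.1.1.2.1.1.1.2
  have hs1 : S.ok.xG s (1 : F) = ψ (uM 1) := (hψ.up 1).symm
  refine noSD_of_weyl (x := φ wM) (y := ψ wM) (z := S.ok.xG s 1) _ (hφ.weyl ▸ S.ok.nG_mem_group _ _)
    (hψ.weyl ▸ S.ok.nG_mem_group _ _) (hφ.commute h hψ _ _) (by rw [← map_pow, wM_four, map_one]) ?_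
    (by rw [← map_pow, wM_four, map_one]) (hs1 ▸ hφ.commute h hψ _ _)
    (hψ.not_commute S hN hb.1.1.1.2.1.1.1.2 hb.1.1.1.1.1.2)
  rw [hφ.weyl]
  exact nG_sq_ne_one S h2 hi hu hodd

theorem noSD_G2 (h2 : (2 : F) ≠ 0) : NoSD (chevG2.group F) :=
  noSD_chev G2.struct okNeg_G2 h2 (i := 0) (s := 11) (u := 1) (by decide +kernel) (by decide +kernel)
    (by decide +kernel) (by decide +kernel)

theorem noSD_F4 (h2 : (2 : F) ≠ 0) : NoSD (chevF4.group F) :=
  noSD_chev F4.struct okNeg_F4 h2 (i := 0) (s := 24) (u := 3) (by decide +kernel) (by decide +kernel)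
    (by decide +kernel) (by decide +kernel)

theorem noSD_E6 (h2 : (2 : F) ≠ 0) : NoSD (chevE6.group F) :=
  noSD_chev E6.struct okNeg_E6 h2 (i := 0) (s := 36) (u := 5) (by decide +kernel) (by decide +kernel)
    (by decide +kernel) (by decide +kernel)

theorem noSD_E7 (h2 : (2 : F) ≠ 0) : NoSD (chevE7.group F) :=
  noSD_chev E7.struct okNeg_E7 h2 (i := 0) (s := 63) (u := 0) (by decide +kernel) (by decide +kernel)
    (by decide +kernel) (by decide +kernel)

theorem noSD_E8 (h2 : (2 : F) ≠ 0) : NoSD (chevE8.group F) :=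
  noSD_chev E8.struct okNeg_E8 h2 (i := 0) (s := 120) (u := 6) (by decide +kernel) (by decide +kernel)
    (by decide +kernel) (by decide +kernel)

theorem noSD_twE6 {q : ℕ} (hq : Odd q) (h2 : (2 : F) ≠ 0) : NoSD ↥(twistedE6 F q) := by
  classical
  let S := E6.struct
  have hm1 : (-1 : F) ^ q = -1 := hq.neg_one_pow
  obtain ⟨φ2, h2'⟩ := exists_rootHom' (F := F) S (r := 46) (by decide +kernel)
  obtain ⟨φ1, h1⟩ := exists_rootHom' (F := F) S (r := 56) (by decide +kernel)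
  obtain ⟨φ6, h6⟩ := exists_rootHom' (F := F) S (r := 36) (by decide +kernel)
  have c21 := h2'.commute (s := 56) (by decide +kernel) h1
  have c26 := h2'.commute (s := 36) (by decide +kernel) h6
  have c16 := h1.commute (s := 36) (by decide +kernel) h6
  let ψ : SL2F →* GL chevE6.Idx F :=
    MonoidHom.mk' (fun a => φ1 a * φ6 a) fun a b => by
      rw [map_mul, map_mul]
      exact Commute.mul_mul_mul_comm (c16 b a) (φ1 a) (φ6 b)
  have hpair : ∀ {rs : ℕ × ℕ}, rs ∈ [(e6p1, e6p6), (e6m1, e6m6), (e6p3, e6p5), (e6m3, e6m5)] → ∀ t : F,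
      t ^ q = t → S.ok.xG rs.1 t * S.ok.xG rs.2 t ∈ twistedE6 F q := by
    intro rs hr t ht
    have h := word_mem (F := F) E6.struct (W := e6Words F q) (w := [(rs.1, t), (rs.2, t)])
      (Or.inr ⟨t, rs, hr, by rw [ht]⟩)
    simpa [twistedE6] using h
  have hx : φ2 wM ∈ twistedE6 F q := by
    rw [wM_word, map_mul, map_mul, h2'.up, h2'.down, show chevE6.neg 46 = e6m2 by decide +kernel]
    exact mul_mem (mul_mem (e6_single_mem (by simp [e6p2]) (one_pow q)) (e6_single_mem (by simp) hm1))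
      (e6_single_mem (by simp [e6p2]) (one_pow q))
  have hy : ψ wM ∈ twistedE6 F q := by
    rw [wM_word, map_mul, map_mul]
    refine mul_mem (mul_mem ?_ ?_) ?_
    · show φ1 (uM 1) * φ6 (uM 1) ∈ _
      rw [h1.up, h6.up]
      exact hpair (rs := (e6p1, e6p6)) (by simp) 1 (one_pow q)
    · show φ1 (lM (-1)) * φ6 (lM (-1)) ∈ _
      rw [h1.down, h6.down, show chevE6.neg 56 = e6m1 by decide +kernel, show chevE6.neg 36 = e6m6 by decide +kernel]
      exact hpair (rs := (e6m1, e6m6)) (by simp) (-1) hm1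
    · show φ1 (uM 1) * φ6 (uM 1) ∈ _
      rw [h1.up, h6.up]
      exact hpair (rs := (e6p1, e6p6)) (by simp) 1 (one_pow q)
  refine noSD_of_weyl (x := φ2 wM) (y := ψ wM) (z := S.ok.xG 56 1) _ hx hy
    ((c21 _ _).mul_right (c26 _ _)) (by rw [← map_pow, wM_four, map_one]) ?_ (by rw [← map_pow, wM_four, map_one])
    (h1.up 1 ▸ c21 _ _) fun hc => ?_
  · rw [h2'.weyl, show (46 : ℕ) = chevE6.simple 1 by decide +kernel]
    exact nG_sq_ne_one S h2 (u := 0) (by decide +kernel) (by decide +kernel) (by decide +kernel)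
  · refine h1.not_commute S okNeg_E6 (by decide +kernel) (by decide +kernel) ?_
    have h6c : Commute (φ6 wM) (S.ok.xG 56 1) := h1.up 1 ▸ (c16 _ _).symm
    have h' : Commute (φ1 wM * φ6 wM) (S.ok.xG 56 1) := hc
    have := h'.mul_left h6c.inv_left
    rwa [mul_inv_cancel_right] at this

/-- The square of a simple Weyl element acts as a sign on a root subgroup. -/
theorem nG_sq_xG (S : Struct D C) {i : ℕ} (hi : i < D.rank) {u : ℕ} (hu : u < D.nroots)
    (hodd : D.cartan i u % 2 = 1) (t : F) :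
    S.ok.nG (D.simple i) (1 : F) ^ 2 * S.ok.xG u t = S.ok.xG u (-t) * S.ok.nG (D.simple i) 1 ^ 2 := by
  have hh : S.ok.nG (D.simple i) (1 : F) ^ 2 = (S.ok.hG (D.simple i) (-1 : F))⁻¹ := by
    rw [Ok.hG, ← S.ok.nG_inv, ← mul_inv_rev, inv_inv, pow_two]
  have h := S.ok.hG_mul_xG_simple hi hu (neg_ne_zero.2 (one_ne_zero (α := F))) (-t)
  rw [(Int.odd_iff.2 hodd).neg_one_zpow, neg_one_mul, neg_neg] at h
  rw [hh, inv_mul_eq_iff_eq_mul, ← mul_assoc, h, mul_inv_cancel_right]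

theorem noSD_twD4 {q : ℕ} (hq : Odd q) (h2 : (2 : F) ≠ 0) : NoSD ↥(twistedD4 F q) := by
  classical
  let S := D4.struct
  have hm1 : (-1 : F) ^ q = -1 := hq.neg_one_pow
  obtain ⟨φh, hh⟩ := exists_rootHom' (F := F) S (r := 23) (by decide +kernel)
  obtain ⟨φ2, h2'⟩ := exists_rootHom' (F := F) S (r := 14) (by decide +kernel)
  obtain ⟨φ1, h1⟩ := exists_rootHom' (F := F) S (r := 18) (by decide +kernel)
  obtain ⟨φ3, h3⟩ := exists_rootHom' (F := F) S (r := 13) (by decide +kernel)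
  obtain ⟨φ4, h4⟩ := exists_rootHom' (F := F) S (r := 12) (by decide +kernel)
  have c13 := h1.commute (s := 13) (by decide +kernel) h3
  have c14 := h1.commute (s := 12) (by decide +kernel) h4
  have c34 := h3.commute (s := 12) (by decide +kernel) h4
  have ch1 := hh.commute (s := 18) (by decide +kernel) h1
  have ch3 := hh.commute (s := 13) (by decide +kernel) h3
  have ch4 := hh.commute (s := 12) (by decide +kernel) h4
  let ψ34 : SL2F →* GL chevD4.Idx F :=
    MonoidHom.mk' (fun a => φ3 a * φ4 a) fun a b => by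
      rw [map_mul, map_mul]
      exact Commute.mul_mul_mul_comm (c34 b a) (φ3 a) (φ4 b)
  let ψ : SL2F →* GL chevD4.Idx F :=
    MonoidHom.mk' (fun a => φ1 a * ψ34 a) fun a b => by
      rw [map_mul, map_mul]
      exact Commute.mul_mul_mul_comm ((c13 b a).mul_right (c14 b a)) (φ1 a) (ψ34 b)
  have hxw : ψ wM = S.ok.nG 18 (1 : F) * (S.ok.nG 13 1 * S.ok.nG 12 1) := by
    rw [← h1.weyl, ← h3.weyl, ← h4.weyl]; rfl
  have htrip : ∀ {rs : ℕ × ℕ × ℕ}, rs ∈ [(d4p1, d4p3, d4p4), (d4m1, d4m3, d4m4)] → ∀ t : F, t ^ q = t →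
      S.ok.xG rs.1 t * (S.ok.xG rs.2.1 t * S.ok.xG rs.2.2 t) ∈ twistedD4 F q := by
    intro rs hr t ht
    have h := word_mem (F := F) D4.struct (W := d4Words F q) (w := [(rs.1, t), (rs.2.1, t), (rs.2.2, t)])
      (Or.inr ⟨t, rs, hr, by simp only [pow_two q, pow_mul, ht]⟩)
    simpa [twistedD4, mul_assoc] using h
  have hx : ψ wM ∈ twistedD4 F q := by
    rw [wM_word, map_mul, map_mul]
    refine mul_mem (mul_mem ?_ ?_) ?_
    · show φ1 (uM 1) * (φ3 (uM 1) * φ4 (uM 1)) ∈ _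
      rw [h1.up, h3.up, h4.up]
      exact htrip (rs := (d4p1, d4p3, d4p4)) (by simp) 1 (one_pow q)
    · show φ1 (lM (-1)) * (φ3 (lM (-1)) * φ4 (lM (-1))) ∈ _
      rw [h1.down, h3.down, h4.down, show chevD4.neg 18 = d4m1 by decide +kernel,
        show chevD4.neg 13 = d4m3 by decide +kernel, show chevD4.neg 12 = d4m4 by decide +kernel]
      exact htrip (rs := (d4m1, d4m3, d4m4)) (by simp) (-1) hm1
    · show φ1 (uM 1) * (φ3 (uM 1) * φ4 (uM 1)) ∈ _
      rw [h1.up, h3.up, h4.up]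
      exact htrip (rs := (d4p1, d4p3, d4p4)) (by simp) 1 (one_pow q)
  have hn2 : φ2 wM ∈ twistedD4 F q := by
    rw [wM_word, map_mul, map_mul, h2'.up, h2'.down, show chevD4.neg 14 = d4m2 by decide +kernel]
    exact mul_mem (mul_mem (d4_single_mem (r := d4p2) (by simp) (one_pow q))
      (d4_single_mem (r := d4m2) (by simp) hm1)) (d4_single_mem (r := d4p2) (by simp) (one_pow q))
  set g : GL chevD4.Idx F := S.ok.nG 14 (1 : F) * ψ wM with hg
  have hgmem : g ∈ twistedD4 F q := mul_mem (h2'.weyl ▸ hn2) hx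
  have hconj : ∀ s, s < chevD4.nroots → ∀ t : F, ∃ c : F,
      g * S.ok.xG s t * g⁻¹ = S.ok.xG (D4.cert.w 1 (D4.cert.w 0 (D4.cert.w 2 (D4.cert.w 3 s)))) c := by
    intro s hs t
    have hl : ∀ i, i < 4 → i < chevD4.rank := fun i hi => by
      rw [show chevD4.rank = 4 by decide +kernel]; exact hi
    have e3 := S.ok.conj_nG_xG (F := F) (hl 3 (by norm_num)) hs t
    have hs3 := S.ok.w_lt (hl 3 (by norm_num)) hs
    have e2 := S.ok.conj_nG_xG (F := F) (hl 2 (by norm_num)) hs3 ((D4.cert.eta 3 s : F) * t)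
    have hs2 := S.ok.w_lt (hl 2 (by norm_num)) hs3
    have e0 := S.ok.conj_nG_xG (F := F) (hl 0 (by norm_num)) hs2
      ((D4.cert.eta 2 (D4.cert.w 3 s) : F) * ((D4.cert.eta 3 s : F) * t))
    have hs0 := S.ok.w_lt (hl 0 (by norm_num)) hs2
    have e1 := S.ok.conj_nG_xG (F := F) (hl 1 (by norm_num)) hs0
      ((D4.cert.eta 0 (D4.cert.w 2 (D4.cert.w 3 s)) : F) *
        ((D4.cert.eta 2 (D4.cert.w 3 s) : F) * ((D4.cert.eta 3 s : F) * t)))
    rw [show chevD4.simple 3 = 12 by decide +kernel] at e3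
    rw [show chevD4.simple 2 = 13 by decide +kernel] at e2
    rw [show chevD4.simple 0 = 18 by decide +kernel] at e0
    rw [show chevD4.simple 1 = 14 by decide +kernel] at e1
    refine ⟨_, Eq.trans ?_ e1⟩
    rw [← e0, ← e2, ← e3, hg, hxw]
    group
  obtain ⟨c, hc⟩ := hconj 14 (by decide +kernel) 1
  obtain ⟨c', hc'⟩ := hconj 9 (by decide +kernel) (-1)
  rw [show D4.cert.w 1 (D4.cert.w 0 (D4.cert.w 2 (D4.cert.w 3 9))) = chevD4.neg 23 by decide +kernel] at hc'
  rw [show D4.cert.w 1 (D4.cert.w 0 (D4.cert.w 2 (D4.cert.w 3 14))) = 23 by decide +kernel] at hc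
  have hcomm : ∀ a, Commute (ψ wM) (φh a) := fun a =>
    ((ch1 a wM).symm.mul_left ((ch3 a wM).symm.mul_left (ch4 a wM).symm))
  have hy : g * φ2 wM * g⁻¹ = φh (uM c * lM c' * uM c) := by
    rw [map_mul, map_mul, hh.up, hh.down, ← hc, ← hc', wM_word, map_mul, map_mul, h2'.up, h2'.down,
      show chevD4.neg 14 = 9 by decide +kernel]
    group
  refine noSD_of_weyl (x := ψ wM) (y := g * φ2 wM * g⁻¹) (z := g * S.ok.xG 14 (1 : F) * g⁻¹) _ hx
    (mul_mem (mul_mem hgmem hn2) (inv_mem hgmem)) (hy ▸ hcomm _) (by rw [← map_pow, wM_four, map_one]) ?_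
    (by rw [conj_pow, ← map_pow, wM_four, map_one, mul_one, mul_inv_cancel]) (by rw [hc, ← hh.up]; exact hcomm _)
    fun h => ?_
  · intro hsq
    have k1 := nG_sq_xG (F := F) S (i := 0) (u := 14) (by decide +kernel) (by decide +kernel) (by decide +kernel)
    have k2 := nG_sq_xG (F := F) S (i := 2) (u := 14) (by decide +kernel) (by decide +kernel) (by decide +kernel)
    have k3 := nG_sq_xG (F := F) S (i := 3) (u := 14) (by decide +kernel) (by decide +kernel) (by decide +kernel)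
    rw [show chevD4.simple 0 = 18 by decide +kernel] at k1
    rw [show chevD4.simple 2 = 13 by decide +kernel] at k2
    rw [show chevD4.simple 3 = 12 by decide +kernel] at k3
    have hcm : Commute (S.ok.nG 13 (1 : F)) (S.ok.nG 12 1) := by rw [← h3.weyl, ← h4.weyl]; exact c34 _ _
    have hcm1 : Commute (S.ok.nG 18 (1 : F)) (S.ok.nG 13 1 * S.ok.nG 12 1) := by
      rw [← h1.weyl, ← h3.weyl, ← h4.weyl]; exact (c13 _ _).mul_right (c14 _ _)
    rw [hxw, hcm1.mul_pow, hcm.mul_pow] at hsq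
    have e : S.ok.xG 14 (1 : F) = S.ok.xG 14 (-1) := by
      calc S.ok.xG 14 (1 : F)
          = S.ok.nG 18 1 ^ 2 * (S.ok.nG 13 1 ^ 2 * S.ok.nG 12 1 ^ 2) * S.ok.xG 14 1 := by rw [hsq, one_mul]
        _ = S.ok.xG 14 (-1) * (S.ok.nG 18 1 ^ 2 * (S.ok.nG 13 1 ^ 2 * S.ok.nG 12 1 ^ 2)) := by
          rw [mul_assoc, mul_assoc, k3, ← mul_assoc (S.ok.nG 13 (1 : F) ^ 2), k2, ← mul_assoc, ← mul_assoc, k1]
          simp only [neg_neg, mul_assoc]
        _ = S.ok.xG 14 (-1) := by rw [hsq, mul_one]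
    have e2 : S.ok.xG 14 ((1 : F) + 1) = 1 := by
      have h0 : S.ok.xG 14 (-1 : F) * S.ok.xG 14 1 = 1 := by rw [S.ok.xG_mul, neg_add_cancel, S.xG_zero]
      rw [← S.ok.xG_mul]
      nth_rewrite 1 [e]
      exact h0
    exact h2 (by rw [← one_add_one_eq_two]; exact S.xG_eq_one (by decide +kernel) e2)
  · refine h2'.not_commute S okNeg_D4 (by decide +kernel) (by decide +kernel) ?_
    exact (Commute.conj_iff g).1 h

end Cfsg.Lib.SDKnown
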