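import Cfsg.Agent.SDKnown.Basic
import Cfsg.Agent.CyclicOdd.Spor.Tools

/-!
# Semidihedral Sylow subgroups and even Schur multipliers
-/

set_option autoImplicit false
set_option linter.style.haveILetI false

namespace Cfsg.Lib.SDKnown

universe u v

open Subgroup
open scoped commutatorElement

/-- A central two-element of a perfect group lies in the derived subgroup of a Sylow two-subgroup. -/
theorem mem_commutator_sylow {G : Type u} [Group G] [Finite G] (hG : commutator G = ⊤) (T : Sylow 2 G) {z : G}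
    (hz : z ∈ center G) (hzT : z ∈ (T : Subgroup G)) (hz2 : z ^ 2 = 1) :
    (⟨z, hzT⟩ : (T : Subgroup G)) ∈ commutator ↥(T : Subgroup G) := by
  haveI : Fact (Nat.Prime 2) := ⟨Nat.prime_two⟩
  have hcen : ∀ g : G, g * z = z * g := mem_center_iff.1 hz
  have hkey : ∀ (k : ℕ) (g₀ : G), g₀⁻¹ * z ^ k * g₀ ∈ (T : Subgroup G) → g₀⁻¹ * z ^ k * g₀ = z ^ k := by
    intro k g₀ _
    rw [((Commute.pow_right (hcen g₀⁻¹) k)).eq, inv_mul_cancel_right]
  have h1 := MonoidHom.transfer_eq_pow (Abelianization.of (G := ↥(T : Subgroup G))) z hkey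
  have hone : MonoidHom.transfer (Abelianization.of (G := ↥(T : Subgroup G))) z = 1 := by
    rw [← MonoidHom.mem_ker]
    exact (Abelianization.commutator_subset_ker _) (hG ▸ mem_top z)
  rw [hone] at h1
  have hodd : ¬ 2 ∣ (T : Subgroup G).index := T.not_dvd_index
  obtain ⟨k, hk⟩ : ∃ k, (T : Subgroup G).index = 2 * k + 1 := ⟨(T : Subgroup G).index / 2, by omega⟩
  have hzk : z ^ (T : Subgroup G).index = z := by rw [hk, pow_succ, pow_mul, hz2, one_pow, one_mul]
  rw [← Abelianization.ker_of, MonoidHom.mem_ker]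
  rw [show (⟨z, hzT⟩ : (T : Subgroup G)) = ⟨z ^ (T : Subgroup G).index, by rw [hzk]; exact hzT⟩ from
    Subtype.ext hzk.symm]
  exact h1.symm

/-- A semidihedral group has no proper covering group with kernel of order two inside the derived subgroup. -/
theorem notMem_commutator {T : Type u} [Group T] [Finite T] {S : Type v} [Group S] (hS : Cfsg.IsQuasiDihedral S)
    (f : T →* S) (hf : Function.Surjective f) {z : T} (hz : z ∈ center T) (hz1 : z ≠ 1) (hz2 : z ^ 2 = 1)
    (hfz : f z = 1)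
    (hker : ∀ t, f t = 1 → t = 1 ∨ t = z) : z ∉ commutator T := by
  obtain ⟨n, hn, hcard, x, y, hx, hy, hrel⟩ := hS
  obtain ⟨a, rfl⟩ := hf x
  obtain ⟨b, rfl⟩ := hf y
  obtain ⟨s, hs⟩ : ∃ s, 2 ^ (n - 1) = 2 * s + 2 :=
    ⟨2 ^ (n - 1) / 2 - 1, by
      have h4 : (4 : ℕ) ≤ 2 ^ (n - 1) :=
        le_trans (by norm_num) (Nat.pow_le_pow_right (by norm_num : 2 > 0) (show 2 ≤ n - 1 by omega))
      have h2 : 2 ∣ 2 ^ (n - 1) := dvd_pow_self 2 (by omega)
      omega⟩
  have hs2 : Odd s := by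
    obtain ⟨e, he⟩ : ∃ e, n - 1 = e + 2 := ⟨n - 3, by omega⟩
    rw [he, pow_add] at hs
    exact ⟨2 ^ e - 1, by have := Nat.one_le_two_pow (n := e); omega⟩
  have hcen : ∀ g, g * z = z * g := mem_center_iff.1 hz
  have hkerz : ∀ t, f t = 1 → ∀ g, g * t = t * g ∧ t ^ 2 = 1 := by
    intro t ht g
    rcases hker t ht with rfl | rfl
    · simp
    · exact ⟨hcen g, hz2⟩
  set r : ℕ := 2 * s + 1 with hr
  obtain ⟨w, hw, hfw⟩ : ∃ w, b * a * b⁻¹ = w * a ^ r ∧ f w = 1 :=
    ⟨b * a * b⁻¹ * (a ^ r)⁻¹, by group, by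
      rw [map_mul, map_mul, map_mul, map_inv, map_inv, map_pow, hrel,
        show 2 ^ (n - 1) - 1 = r by omega, mul_inv_cancel]⟩
  have hwc : ∀ g, Commute g w := fun g => (hkerz w hfw g).1
  have hw2 : w ^ 2 = 1 := (hkerz w hfw 1).2
  have hwodd : ∀ k, Odd k → w ^ k = w := by
    rintro _ ⟨k, rfl⟩
    rw [pow_succ, pow_mul, hw2, one_pow, one_mul]
  have hweven : ∀ k, Even k → w ^ k = 1 := by
    rintro k ⟨l, rfl⟩
    rw [← two_mul, pow_mul, hw2, one_pow]
  -- the lift of the generator of the cyclic subgroup has the same order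
  have hb2 : f (b ^ 2) = 1 := by rw [map_pow, ← hy, pow_orderOf_eq_one]
  have haa : a ^ (r * r) = a := by
    have h1 : b ^ 2 * a * (b ^ 2)⁻¹ = a := by
      rw [← (hkerz _ hb2 a).1, mul_inv_cancel_right]
    have h2 : b ^ 2 * a * (b ^ 2)⁻¹ = b * (b * a * b⁻¹) * b⁻¹ := by rw [pow_two]; group
    rw [h2, hw, show b * (w * a ^ r) * b⁻¹ = w * (b * a * b⁻¹) ^ r by
      rw [conj_pow, ← mul_assoc b w, (hwc b).eq]; group, hw,
      ((hwc (a ^ r)).symm).mul_pow, hwodd r ⟨s, rfl⟩, ← mul_assoc, ← pow_two, hw2, one_mul, ← pow_mul] at h1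
    exact h1
  have ha2n : a ^ 2 ^ n = 1 := by
    have hA : a ^ (r * r - 1) = 1 := by
      have : a ^ (r * r - 1) * a = 1 * a := by
        rw [← pow_succ, Nat.sub_add_cancel (by nlinarith), haa, one_mul]
      exact mul_right_cancel this
    have he : r * r - 1 = 2 ^ n * s := by
      have hn2 : 2 ^ n = 2 ^ (n - 1) * 2 := by rw [← pow_succ, Nat.sub_add_cancel (by omega : 1 ≤ n)]
      rw [hn2, hs, hr]
      refine Nat.sub_eq_of_eq_add ?_
      ring
    have hf2 : f (a ^ 2 ^ n) = 1 := by rw [map_pow, ← hx, pow_orderOf_eq_one]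
    obtain ⟨l, hl⟩ := hs2
    have h2 := (hkerz _ hf2 1).2
    rw [he, pow_mul, hl, pow_succ, pow_mul, h2, one_pow, one_mul] at hA
    exact hA
  set c := b * a * b⁻¹ * a⁻¹ with hc
  have hceq : c = w * a ^ (2 * s) := by rw [hc, hw, hr, pow_succ]; group
  have hac : Commute a c := by
    rw [hceq]
    exact (hwc a).mul_right ((Commute.refl a).pow_right _)
  have hbc : b * c * b⁻¹ = c ^ r := by
    rw [hceq, ((hwc (a ^ (2 * s))).symm).mul_pow, hwodd r ⟨s, rfl⟩, ← pow_mul, ← mul_assoc b w, (hwc b).eq,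
      show w * b * a ^ (2 * s) * b⁻¹ = w * (b * a * b⁻¹) ^ (2 * s) by rw [conj_pow]; group, hw,
      ((hwc (a ^ r)).symm).mul_pow, hweven _ ⟨s, two_mul s⟩, one_mul, ← pow_mul, mul_comm r]
  have hgen : ∀ t : T, t ∈ Subgroup.closure ({a, b, z} : Set T) := by
    intro t
    have hmem : f t ∈ Subgroup.closure ({f a, f b} : Set S) := by
      have htop : Subgroup.closure ({f a, f b} : Set S) = ⊤ := by
        haveI : Finite S := Finite.of_surjective f hf
        refine Subgroup.eq_top_of_le_card _ ?_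
        have hidx : (zpowers (f a)).index = 2 := by
          have h := (zpowers (f a)).card_mul_index
          rw [Nat.card_zpowers, hx, hcard, pow_succ] at h
          exact Nat.eq_of_mul_eq_mul_left (by positivity) h
        have hbn : f b ∉ zpowers (f a) := by
          intro hb
          obtain ⟨k, hk⟩ := mem_zpowers_iff.1 hb
          rw [← hk] at hrel
          have hc : f a ^ k * f a * (f a ^ k)⁻¹ = f a := by group
          rw [hc] at hrel
          have h2 : f a ^ (2 ^ (n - 1) - 1) = f a ^ 1 := by rw [pow_one]; exact hrel.symm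
          have hlt : 2 ^ (n - 1) ≤ 2 ^ n := Nat.pow_le_pow_right (by norm_num) (by omega)
          rw [pow_inj_mod, hx, Nat.mod_eq_of_lt (by omega), Nat.mod_eq_of_lt (Nat.one_lt_two_pow (by omega))] at h2
          obtain ⟨l, hl⟩ := hs2
          omega
        have hle : zpowers (f a) < Subgroup.closure ({f a, f b} : Set S) := by
          refine lt_of_le_of_ne (zpowers_le.2 (subset_closure (Set.mem_insert _ _))) fun e => hbn ?_
          rw [e]
          exact subset_closure (Set.mem_insert_of_mem _ rfl)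
        have hd := Subgroup.relIndex_mul_index hle.le
        rw [hidx] at hd
        have hne : (zpowers (f a)).relIndex (Subgroup.closure ({f a, f b} : Set S)) ≠ 1 := fun e =>
          hle.not_ge (relIndex_eq_one.1 e)
        have h2 : (Subgroup.closure ({f a, f b} : Set S)).index = 1 := by
          rcases (Nat.dvd_prime Nat.prime_two).1 (Dvd.intro _ hd) with h | h
          · exact absurd h hne
          · rw [h] at hd; omega
        rw [index_eq_one.1 h2, Subgroup.card_top]
      rw [htop]; exact mem_top _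
    rw [show ({f a, f b} : Set S) = f '' {a, b} by rw [Set.image_pair], ← MonoidHom.map_closure] at hmem
    obtain ⟨u, hu, hue⟩ := hmem
    have hu' : u ∈ Subgroup.closure ({a, b, z} : Set T) :=
      closure_mono (by intro v hv; rcases hv with rfl | rfl <;> simp) hu
    have hk : f (u⁻¹ * t) = 1 := by rw [map_mul, map_inv, hue, inv_mul_cancel]
    rw [show t = u * (u⁻¹ * t) by group]
    refine mul_mem hu' ?_
    rcases hker _ hk with h | h <;> rw [h]
    exacts [one_mem _, subset_closure (by simp)]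
  have htop : Subgroup.closure ({a, b, z} : Set T) = ⊤ := eq_top_iff.2 fun t _ => hgen t
  have hN : (zpowers c).Normal := by
    rw [← normalizer_eq_top_iff, eq_top_iff, ← htop, closure_le]
    have key : ∀ g : T, g * c * g⁻¹ ∈ zpowers c → g ∈ normalizer (zpowers c : Set T) := fun g hg => by
      rw [mem_normalizer_iff_map_conj_eq]
      refine eq_of_le_of_card_ge ?_ ?_
      · rw [MonoidHom.map_zpowers]
        exact zpowers_le.2 hg
      · rw [Subgroup.card_map_of_injective (MulEquiv.injective _)]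
    rintro g (rfl | rfl | rfl)
    · exact key _ (by rw [hac.eq, mul_inv_cancel_right]; exact mem_zpowers c)
    · exact key _ (by rw [hbc]; exact pow_mem (mem_zpowers c) r)
    · exact key _ (by rw [(hcen c).symm, mul_inv_cancel_right]; exact mem_zpowers c)
  have hle : commutator T ≤ zpowers c := by
    rw [← Subgroup.Normal.quotient_commutative_iff_commutator_le]
    refine ⟨⟨fun u v => ?_⟩⟩
    set π := QuotientGroup.mk' (zpowers c)
    have hgen' : Subgroup.closure (π '' {a, b, z}) = ⊤ := by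
      rw [← MonoidHom.map_closure, htop, map_top_of_surjective _ (QuotientGroup.mk'_surjective _)]
    have hab : π a * π b = π b * π a := by
      have h1 : π (b * a * b⁻¹ * a⁻¹) = 1 := (QuotientGroup.eq_one_iff _).2 (hc ▸ mem_zpowers c)
      rw [map_mul, map_mul, map_mul, map_inv, map_inv, mul_inv_eq_one, mul_inv_eq_iff_eq_mul] at h1
      exact h1.symm
    have hcomm : ∀ u ∈ π '' {a, b, z}, ∀ v ∈ π '' {a, b, z}, u * v = v * u := by
      rintro _ ⟨u, hu, rfl⟩ _ ⟨v, hv, rfl⟩
      rcases hu with rfl | rfl | rfl <;> rcases hv with rfl | rfl | rfl <;>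
        first | rfl | exact hab | exact hab.symm | (rw [← map_mul, ← map_mul, hcen])
    haveI := Subgroup.isMulCommutative_closure hcomm
    exact congrArg Subtype.val ((IsMulCommutative.is_comm (M := Subgroup.closure (π '' {a, b, z}))).comm
      ⟨u, hgen' ▸ mem_top _⟩ ⟨v, hgen' ▸ mem_top _⟩)
  intro hzc
  obtain ⟨k, hk⟩ := mem_zpowers_iff.1 (hle hzc)
  haveI : Finite T := inferInstance
  obtain ⟨k', hk'⟩ := (isOfFinOrder_of_finite c).mem_powers_iff_mem_zpowers.2 ⟨k, hk⟩
  replace hk : c ^ k' = z := hk'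
  rw [hceq, (hwc (a ^ (2 * s))).symm.mul_pow, ← pow_mul] at hk
  have h2 : f a ^ (2 * s * k') = 1 := by
    have := congrArg f hk
    rwa [map_mul, map_pow, map_pow, hfw, one_pow, one_mul, hfz] at this
  have hdvd : 2 ^ n ∣ 2 * s * k' := hx ▸ orderOf_dvd_of_pow_eq_one h2
  have hkeven : Even k' := by
    rcases Nat.even_or_odd k' with h | h
    · exact h
    · exfalso
      have h4 : 2 * 2 ∣ 2 * (s * k') := by
        rw [← mul_assoc]
        exact (pow_dvd_pow 2 (show 2 ≤ n by omega)).trans hdvd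
      exact (Nat.not_even_iff_odd.2 (hs2.mul h)) (even_iff_two_dvd.2 (Nat.dvd_of_mul_dvd_mul_left (by norm_num) h4))
  obtain ⟨m, hm⟩ := hdvd
  rw [hweven _ hkeven, one_mul, hm, pow_mul, ha2n, one_pow] at hk
  exact hz1 hk.symm

/-- A perfect group with an even cyclic Schur multiplier has no semidihedral Sylow two-subgroup. -/
theorem not_qd_of_multiplier {G : Type u} [Group G] [Finite G] (hG : commutator G = ⊤) {n : ℕ} [NeZero n]
    (h2 : 2 ∣ n) (h : Cfsg.HasCyclicSchurMultiplier G n) (S : Sylow 2 G) :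
    ¬ Cfsg.IsQuasiDihedral (S : Subgroup G) := by
  intro hS
  haveI : Fact (Nat.Prime 2) := ⟨Nat.prime_two⟩
  obtain ⟨⟨Γ, i1, i2, σ, ⟨hσ, hz, hd⟩, ⟨e⟩⟩, -⟩ := h
  have hcard : Nat.card σ.ker = n := by
    rw [Nat.card_congr e.toEquiv, Nat.card_congr Multiplicative.toAdd, Nat.card_zmod]
  have hperf : commutator Γ = ⊤ := by
    refine eq_top_iff.mpr fun g _ => ?_
    have hmap : (commutator Γ).map σ = ⊤ := by
      rw [commutator_def, Subgroup.map_commutator, Subgroup.map_top_of_surjective σ hσ, ← commutator_def, hG]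
    obtain ⟨c, hc, hcg⟩ := (hmap.ge (Subgroup.mem_top (σ g)) : σ g ∈ (commutator Γ).map σ)
    have hk : c⁻¹ * g ∈ σ.ker := by rw [MonoidHom.mem_ker, map_mul, map_inv, hcg, inv_mul_cancel]
    have := mul_mem hc (hd hk)
    rwa [mul_inv_cancel_left] at this
  haveI : IsCyclic σ.ker := isCyclic_of_surjective e.symm.toMonoidHom e.symm.surjective
  obtain ⟨g, hg⟩ := IsCyclic.exists_ofOrder_eq_natCard (α := σ.ker)
  rw [hcard] at hg
  -- the subgroup of index two of the kernel
  let M : Subgroup Γ := zpowers ((g : Γ) ^ 2)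
  have hMc : M ≤ center Γ := zpowers_le.2 (pow_mem (hz g.2) 2)
  haveI : M.Normal := ⟨fun x hx y => by rwa [mem_center_iff.1 (hMc hx) y, mul_inv_cancel_right]⟩
  have hMk : M ≤ σ.ker := zpowers_le.2 (pow_mem g.2 2)
  let σ' : Γ ⧸ M →* G := QuotientGroup.lift M σ hMk
  have hσ' : Function.Surjective σ' := fun y => by
    obtain ⟨x, rfl⟩ := hσ y
    exact ⟨QuotientGroup.mk x, rfl⟩
  set z : Γ ⧸ M := QuotientGroup.mk (g : Γ) with hzdef
  have hz2 : z ^ 2 = 1 := (QuotientGroup.eq_one_iff _).2 (mem_zpowers _)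
  have hz1 : z ≠ 1 := by
    intro h1
    obtain ⟨k, hk⟩ := mem_zpowers_iff.1 ((QuotientGroup.eq_one_iff _).1 h1)
    have h' : (g : Γ) ^ (2 * k - 1) = 1 := by
      rw [zpow_sub_one, zpow_mul, zpow_ofNat, hk, mul_inv_cancel]
    have hdv : (n : ℤ) ∣ 2 * k - 1 := by
      rw [← hg, ← Subgroup.orderOf_coe]
      exact orderOf_dvd_iff_zpow_eq_one.2 h'
    obtain ⟨l, hl⟩ := (show (2 : ℤ) ∣ (n : ℤ) by exact_mod_cast h2).trans hdv
    omega
  have hkg : ∀ t : Γ ⧸ M, σ' t = 1 → t = 1 ∨ t = z := by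
    intro t ht
    obtain ⟨x, rfl⟩ := QuotientGroup.mk_surjective t
    have hx : (⟨x, ht⟩ : σ.ker) ∈ zpowers g := by
      rw [(Subgroup.eq_top_of_card_eq _ (by rw [Nat.card_zpowers, hg, hcard]) : zpowers g = ⊤)]
      exact mem_top _
    obtain ⟨k, hk⟩ := mem_zpowers_iff.1 hx
    have hk' : (g : Γ) ^ k = x := congrArg Subtype.val hk
    have e1 : (QuotientGroup.mk x : Γ ⧸ M) = z ^ k := by rw [hzdef, ← QuotientGroup.mk_zpow, hk']
    rcases Int.even_or_odd k with ⟨l, rfl⟩ | ⟨l, rfl⟩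
    · exact Or.inl (by rw [e1, ← two_mul, zpow_mul, zpow_ofNat, hz2, one_zpow])
    · exact Or.inr (by rw [e1, zpow_add_one, zpow_mul, zpow_ofNat, hz2, one_zpow, one_mul])
  have hzc : z ∈ center (Γ ⧸ M) := mem_center_iff.2 fun y => by
    obtain ⟨y, rfl⟩ := QuotientGroup.mk_surjective y
    rw [hzdef, ← QuotientGroup.mk_mul, ← QuotientGroup.mk_mul, mem_center_iff.1 (hz g.2) y]
  have hperf' : commutator (Γ ⧸ M) = ⊤ := by
    rw [_root_.commutator_def, ← Subgroup.map_top_of_surjective (QuotientGroup.mk' M) (QuotientGroup.mk'_surjective M),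
      ← Subgroup.map_commutator, ← _root_.commutator_def, hperf]
  obtain ⟨T, hT⟩ := Sylow.mapSurjective_surjective hσ' 2 S
  have hzp : IsPGroup 2 (zpowers z) := fun x => ⟨1, by
    obtain ⟨⟨x, hx⟩, rfl⟩ : ∃ y : zpowers z, y = x := ⟨x, rfl⟩
    obtain ⟨k, rfl⟩ := mem_zpowers_iff.1 hx
    refine Subtype.ext ?_
    show (z ^ k) ^ (2 ^ 1) = 1
    rw [pow_one, ← zpow_natCast, ← zpow_mul, mul_comm, zpow_mul, zpow_natCast, hz2, one_zpow]⟩
  have hzT : z ∈ (T : Subgroup (Γ ⧸ M)) := by
    haveI : (zpowers z).Normal := ⟨fun x hx y => by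
      rwa [mem_center_iff.1 ((zpowers_le.2 hzc) hx) y, mul_inv_cancel_right]⟩
    have hsup : IsPGroup 2 ((T : Subgroup (Γ ⧸ M)) ⊔ zpowers z : Subgroup (Γ ⧸ M)) :=
      IsPGroup.to_sup_of_normal_right T.isPGroup' hzp
    exact T.3 hsup le_sup_left ▸ (le_sup_right : zpowers z ≤ _) (mem_zpowers z)
  have hmap : ((T : Subgroup (Γ ⧸ M)).map σ') = (S : Subgroup G) := by rw [← hT]; rfl
  refine notMem_commutator (T := ↥(T : Subgroup (Γ ⧸ M))) hS
    ((MulEquiv.subgroupCongr hmap).toMonoidHom.comp (σ'.subgroupMap (T : Subgroup (Γ ⧸ M))))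
    ((MulEquiv.subgroupCongr hmap).surjective.comp (σ'.subgroupMap_surjective _)) (z := ⟨z, hzT⟩)
    (mem_center_iff.2 fun y => Subtype.ext (mem_center_iff.1 hzc y))
    (fun h => hz1 (congrArg Subtype.val h)) (Subtype.ext hz2) (Subtype.ext ?_) ?_
    (mem_commutator_sylow hperf' T hzc hzT hz2)
  · exact g.2
  · intro t ht
    rcases hkg t (congrArg Subtype.val ht :) with h | h
    exacts [Or.inl (Subtype.ext h), Or.inr (Subtype.ext h)]

end Cfsg.Lib.SDKnown
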