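import Cfsg.Agent.SDKnown.Multiplier
import Cfsg.Agent.CyclicOdd.Spor.Conway
import Cfsg.Agent.S2131
import Cfsg.Agent.S2135
import Cfsg.Agent.PGroups.Basic
import Cfsg.Prelude.Def_EvenType

/-!
# Mathieu groups, the first and third Janko groups
-/

set_option autoImplicit false
set_option linter.style.haveILetI false

namespace Cfsg.Lib.SDKnown

universe u

open Cfsg Cfsg.Lib.Golay

/-- Elementary abelian subgroups of order eight. -/
theorem noSD_of_pRank {G : Type u} [Group G] [Finite G] (h : Cfsg.PRankAtLeast 2 3 G) : NoSD G := by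
  obtain ⟨A, hA, hA2, hcard⟩ := h
  refine noSD_of_closure (s := (A : Set G)) (fun x hx y hy => congrArg Subtype.val (hA.is_comm.comm ⟨x, hx⟩ ⟨y, hy⟩))
    (fun x hx => by rw [show 4 = 2 * 2 from rfl, pow_mul, hA2 x hx, one_pow]) ?_
  rw [Subgroup.closure_eq]
  exact lt_of_lt_of_le (by norm_num) hcard

/-- Two-elements of a permutation group on few points have small orders. -/
theorem orderOf_perm_le {α : Type u} [Fintype α] [DecidableEq α] (σ : Equiv.Perm α) {k : ℕ}
    (h : orderOf σ = 2 ^ k) (hk : 1 ≤ k) : 2 ^ k ≤ Fintype.card α := by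
  have hne : σ ≠ 1 := by
    rintro rfl
    rw [orderOf_one] at h
    exact absurd h.symm (Nat.one_lt_two_pow (by omega)).ne'
  by_contra hlt
  push Not at hlt
  have hall : ∀ n ∈ σ.cycleType, n ∣ 2 ^ (k - 1) := by
    intro n hn
    have hdvd : n ∣ 2 ^ k := h ▸ Equiv.Perm.dvd_of_mem_cycleType hn
    obtain ⟨i, hi, rfl⟩ := (Nat.dvd_prime_pow Nat.prime_two).1 hdvd
    refine pow_dvd_pow 2 ?_
    by_contra hik
    obtain rfl : i = k := by omega
    have hle : 2 ^ i ≤ σ.cycleType.sum := Multiset.le_sum_of_mem hn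
    rw [Equiv.Perm.sum_cycleType] at hle
    exact absurd (hle.trans σ.support.card_le_univ) (not_le.2 hlt)
  have := Multiset.lcm_dvd.2 hall
  rw [Equiv.Perm.lcm_cycleType, h] at this
  have := (Nat.pow_dvd_pow_iff_le_right (by norm_num)).1 this
  omega

theorem noSD_M22 : NoSD Spor.M22 := by
  refine noSD_of_two_part (k := 7) (by rw [card_M22]; norm_num) fun g hg => ?_
  obtain ⟨i, hi, hgi⟩ := (Nat.dvd_prime_pow Nat.prime_two).1 hg
  rw [hgi]
  rcases Nat.lt_or_ge i 6 with h | h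
  · calc 2 * 2 ^ i = 2 ^ (i + 1) := by rw [pow_succ']
      _ < 2 ^ 7 := Nat.pow_lt_pow_right (by norm_num) (by omega)
  · exfalso
    have h1 := orderOf_perm_le (g : Equiv.Perm GolayPt) (by rw [Subgroup.orderOf_coe]; exact hgi) (by omega)
    have h2 : 2 ^ 6 ≤ 2 ^ i := Nat.pow_le_pow_right (by norm_num) h
    have h3 : Fintype.card GolayPt = 24 := by decide
    omega

theorem noSD_M23 : NoSD Spor.M23 :=
  noSD_M22.of_injective (Subgroup.inclusion CyclicOdd.M22_le_M23) (Subgroup.inclusion_injective CyclicOdd.M22_le_M23)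

theorem noSD_M24 : NoSD M24 :=
  noSD_M23.of_injective (Subgroup.inclusion CyclicOdd.M23_le_M24) (Subgroup.inclusion_injective CyclicOdd.M23_le_M24)

theorem noSD_of_contains {S : Subgroup (Equiv.Perm leechLattice)} [Finite S]
    (h : ∀ σ : Spor.M22, CyclicOdd.m22Hom σ ∈ S) : NoSD S :=
  noSD_M22.of_injective (CyclicOdd.m22Hom.codRestrict S h)
    fun _ _ e => CyclicOdd.m22Hom_injective (congrArg Subtype.val e :)

theorem noSD_J1 [Finite Spor.J1] : NoSD Spor.J1 := by
  obtain ⟨t, -, ⟨e⟩⟩ := Cfsg.Agent.S2131.result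
  refine NoSD.of_subgroup (Subgroup.centralizer {t}) (NoSD.congr e.symm ?_)
  let z : Multiplicative (ZMod 2) := Multiplicative.ofAdd 1
  let b : ↥(alternatingGroup (Fin 5)) := ⟨Equiv.swap 0 1 * Equiv.swap 2 3, Equiv.Perm.mem_alternatingGroup.2 (by decide)⟩
  let c : ↥(alternatingGroup (Fin 5)) := ⟨Equiv.swap 0 2 * Equiv.swap 1 3, Equiv.Perm.mem_alternatingGroup.2 (by decide)⟩
  exact noSD_of_three (a := (z, 1)) (b := (1, b)) (c := (1, c))
    (Prod.ext (by simp) (by simp)) (Prod.ext (by simp) (by simp)) (Prod.ext (by simp) (Subtype.ext (by decide)))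
    (by decide) (by decide) (by decide) (by decide) (by decide) (by decide) (by decide) (by decide) (by decide)
    (by decide)

theorem noSD_J3 {F : Type} [Field F] [Fintype F] (hF : Fintype.card F = 4) (ω : F) (hω : ω ^ 2 + ω + 1 = 0)
    [Finite (Spor.J3 F ω)] : NoSD (Spor.J3 F ω) := by
  obtain ⟨-, t, -, Q, -, hQ, hc, -⟩ := Cfsg.Agent.S2135.result hF ω hω
  obtain ⟨⟨hP, -, hcom⟩, hz⟩ := hQ
  refine NoSD.of_subgroup (Subgroup.centralizer {t}) (noSD_of_orders Q hP fun g hg => ?_)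
  rw [hc]
  have hcen : ∀ c ∈ Subgroup.center Q, c ^ 2 = 1 := fun c hc' => by
    have h1 : (⟨c, hc'⟩ : Subgroup.center Q) ^ Nat.card (Subgroup.center Q) = 1 := pow_card_eq_one'
    rw [hz] at h1
    exact congrArg Subtype.val h1
  have hsq : (⟨g, hg⟩ : Q) ^ 2 ∈ Subgroup.center Q := by
    refine Subgroup.mem_center_iff.2 fun y => ?_
    set x : Q := ⟨g, hg⟩
    obtain ⟨c, hcc, hcx⟩ : ∃ c, c ∈ Subgroup.center Q ∧ y * x * y⁻¹ = c * x := by
      refine ⟨y * x * y⁻¹ * x⁻¹, ?_, by group⟩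
      rw [← hcom, ← commutatorElement_def]
      exact Subgroup.commutator_mem_commutator (Subgroup.mem_top _) (Subgroup.mem_top _)
    have hcm : Commute c x := (Subgroup.mem_center_iff.1 hcc x).symm
    have e : y * x ^ 2 * y⁻¹ = x ^ 2 := by rw [← conj_pow, hcx, hcm.mul_pow, hcen c hcc, one_mul]
    exact mul_inv_eq_iff_eq_mul.1 e
  have h4 : g ^ 4 = 1 := by
    have := hcen _ hsq
    rw [← pow_mul] at this
    exact congrArg Subtype.val this
  have := Nat.le_of_dvd (by norm_num) (orderOf_dvd_of_pow_eq_one h4)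
  omega

end Cfsg.Lib.SDKnown
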